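import Groth.Agent.GIT36.Sections.Pull
import Groth.Agent.GIT36.AffQuot.Main
import Groth.Prelude.Def_GLinSh

/-!
Invariant sections of a linearised line bundle: algebra, invariant loci, invariant ratios.
-/

set_option autoImplicit false
set_option backward.isDefEq.respectTransparency.types false
set_option linter.style.haveILetI false
set_option linter.unusedSectionVars false

universe u

open CategoryTheory CategoryTheory.Limits MonoidalCategory CartesianMonoidalCategory MonObj GrpObj AlgebraicGeometry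
  Opposite TopologicalSpace

noncomputable section

namespace Groth.Agent.GIT36.Sections

variable {S : Scheme.{u}} {G X : Over S} [GrpObj G] {a : AlgGrp.Action G X} (B : GLinSh.LinBun G a)

/-- the atlas of a linearised bundle, over the underlying schemes -/
def atlasB : Atlas B.π.left := ⟨B.atlas.chart, B.atlas.cover, B.atlas.coord⟩

theorem wt_iff {n : ℕ} {f : Γ(B.V.left, ⊤)} :
    (atlasB B).Wt n f ↔ GLinSh.HasWeight B.atlas.chart n f := Iff.rfl

theorem nv_eq (f : Γ(B.V.left, ⊤)) : nv B.π.left f = GLinSh.nonvanishing B.π f := rfl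

variable {B}

theorem isOpen_nonvanishing {n : ℕ} {f : Γ(B.V.left, ⊤)} (hf : B.IsInvSection n f) :
    IsOpen (GLinSh.nonvanishing B.π f) := by
  haveI := B.atlas.affine
  exact isOpen_nv (atlasB B) hf.1

theorem inv_one : B.IsInvSection 0 1 := by
  haveI := B.atlas.affine
  exact ⟨Atlas.Wt.one (atlasB B), by simp [GLinSh.IsInvFn]⟩

theorem inv_zero (n : ℕ) : B.IsInvSection n 0 := by
  haveI := B.atlas.affine
  exact ⟨Atlas.Wt.zero (atlasB B) n, by simp [GLinSh.IsInvFn]⟩

theorem inv_mul' {n m : ℕ} {f g : Γ(B.V.left, ⊤)} (hf : B.IsInvSection n f) (hg : B.IsInvSection m g) :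
    B.IsInvSection (n + m) (f * g) := by
  haveI := B.atlas.affine
  refine ⟨Atlas.Wt.mul (A := atlasB B) hf.1 hg.1, ?_⟩
  unfold GLinSh.IsInvFn at *
  rw [map_mul, map_mul, hf.2, hg.2]

theorem inv_add' {n : ℕ} {f g : Γ(B.V.left, ⊤)} (hf : B.IsInvSection n f) (hg : B.IsInvSection n g) :
    B.IsInvSection n (f + g) := by
  haveI := B.atlas.affine
  refine ⟨Atlas.Wt.add (A := atlasB B) hf.1 hg.1, ?_⟩
  unfold GLinSh.IsInvFn at *
  rw [map_add, map_add, hf.2, hg.2]

theorem inv_pow' {n : ℕ} {f : Γ(B.V.left, ⊤)} (hf : B.IsInvSection n f) (m : ℕ) :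
    B.IsInvSection (m * n) (f ^ m) := by
  haveI := B.atlas.affine
  refine ⟨Atlas.Wt.pow (A := atlasB B) hf.1 m, ?_⟩
  unfold GLinSh.IsInvFn at *
  rw [map_pow, map_pow, hf.2]

theorem inv_sum {n : ℕ} {J : Type*} (s : Finset J) (f : J → Γ(B.V.left, ⊤))
    (hf : ∀ j ∈ s, B.IsInvSection n (f j)) : B.IsInvSection n (∑ j ∈ s, f j) := by
  classical
  induction s using Finset.induction_on with
  | empty => rw [Finset.sum_empty]; exact inv_zero n
  | insert i s hi ih =>
    rw [Finset.sum_insert hi]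
    exact inv_add' (hf i (Finset.mem_insert_self i s)) (ih fun j hj => hf j (Finset.mem_insert_of_mem hj))

variable (B)

/-- functions from the base scheme, as functions on the total space -/
def cst (c : Γ(S, ⊤)) : Γ(B.V.left, ⊤) := B.π.left.appTop (X.hom.appTop c)

theorem inv_cst (c : Γ(S, ⊤)) : B.IsInvSection 0 (cst B c) := by
  haveI := B.atlas.affine
  refine ⟨Atlas.Wt.base (atlasB B) (X.hom.appTop c), ?_⟩
  unfold GLinSh.IsInvFn cst
  simp only [← CommRingCat.comp_apply, ← Scheme.Hom.comp_appTop]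
  have e : ∀ m : G ⊗ B.V ⟶ B.V, (m.left ≫ B.π.left) ≫ X.hom = (G ⊗ B.V).hom := fun m => by
    rw [Category.assoc, Over.w B.π, Over.w m]
  simp only [← Category.assoc] at e ⊢
  rw [e, e]

variable {B}

theorem inv_smul' {n : ℕ} {f : Γ(B.V.left, ⊤)} (c : Γ(S, ⊤)) (hf : B.IsInvSection n f) :
    B.IsInvSection n (cst B c * f) := by
  have h := inv_mul' (inv_cst B c) hf
  rwa [Nat.zero_add] at h

/-- the twisted swap -/
theorem flip_act : lift ((fst G X)⁻¹) a.act ≫ a.act = snd G X := by
  have h : a.act = lift (fst G X) (snd G X) ≫ a.act := by simp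
  conv_lhs => arg 1; arg 2; rw [h]
  rw [← AlgGrp.Action.lift_mul_act, inv_mul_cancel, AlgGrp.Action.lift_one_act]

theorem nonvanishing_invariant {n : ℕ} {f : Γ(B.V.left, ⊤)} (hf : B.IsInvSection n f) :
    a.act.left.base ⁻¹' GLinSh.nonvanishing B.π f = (snd G X).left.base ⁻¹' GLinSh.nonvanishing B.π f := by
  have hsub : ∀ p, (snd G X).left.base p ∈ GLinSh.nonvanishing B.π f →
      a.act.left.base p ∈ GLinSh.nonvanishing B.π f := by
    intro p ⟨v, hv, hvp⟩
    obtain ⟨q, hq₁, hq₂⟩ := Scheme.Pullback.exists_preimage_pullback p v hvp.symm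
    have hpb := Quot.isPullback_whiskerLeft_left G B.π
    set q' := hpb.isoPullback.inv q
    have h₁ : hpb.isoPullback.inv ≫ (G ◁ B.π).left = Limits.pullback.fst _ _ := hpb.isoPullback_inv_fst
    have h₂ : hpb.isoPullback.inv ≫ (snd G B.V).left = Limits.pullback.snd _ _ := hpb.isoPullback_inv_snd
    have e₁ : (G ◁ B.π).left q' = p := by rw [← Scheme.Hom.comp_apply, h₁]; exact hq₁
    have e₂ : (snd G B.V).left q' = v := by rw [← Scheme.Hom.comp_apply, h₂]; exact hq₂
    have h3 : q' ∈ (snd G B.V).left ⁻¹ᵁ B.V.left.basicOpen f := by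
      show (snd G B.V).left q' ∈ B.V.left.basicOpen f
      rw [e₂]
      exact hv
    rw [Scheme.Hom.preimage_basicOpen_top, ← show B.lift.act.left.appTop f = _ from hf.2,
      ← Scheme.Hom.preimage_basicOpen_top] at h3
    refine ⟨B.lift.act.left q', h3, ?_⟩
    have h := congrArg (fun m => m.left) B.lift_π
    simp only [Over.comp_left] at h
    rw [← e₁, ← Scheme.Hom.comp_apply, h]
    rfl
  refine Set.Subset.antisymm ?_ hsub
  intro p hp
  have e₁ : (snd G X).left.base ((lift ((fst G X)⁻¹) a.act).left p) = a.act.left.base p := by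
    rw [← Scheme.Hom.comp_apply, ← Over.comp_left, lift_snd]
  have h := hsub _ (by rw [e₁]; exact hp)
  rw [← Scheme.Hom.comp_apply, ← Over.comp_left, flip_act] at h
  exact h

theorem preimage_invariant {n : ℕ} {f : Γ(B.V.left, ⊤)} (hf : B.IsInvSection n f) {U : X.left.Opens}
    (hU : (U : Set X.left) = GLinSh.nonvanishing B.π f) :
    a.act.left ⁻¹ᵁ U = (snd G X).left ⁻¹ᵁ U := by
  ext1
  change a.act.left.base ⁻¹' (U : Set X.left) = (snd G X).left.base ⁻¹' (U : Set X.left)
  rw [hU]
  exact nonvanishing_invariant hf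

/-- ratios of invariant sections of equal weight are invariant -/
theorem ratio_invariant {n : ℕ} {f g : Γ(B.V.left, ⊤)} (hf : B.IsInvSection n f) (hg : GLinSh.IsInvFn B.lift g)
    {D : X.left.Opens} (hD : (D : Set X.left) ⊆ GLinSh.nonvanishing B.π f)
    (hinv : a.act.left ⁻¹ᵁ D = (snd G X).left ⁻¹ᵁ D) {r : Γ(X.left, D)} (hr : IsRatio B.π.left f g r) :
    a.act.left.appLE D ((snd G X).left ⁻¹ᵁ D) hinv.ge r =
      (snd G X).left.appLE D ((snd G X).left ⁻¹ᵁ D) le_rfl r := by
  haveI := B.atlas.affine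
  have hpb : IsPullback (snd G B.V).left (G ◁ B.π).left B.π.left (snd G X).left :=
    (Quot.isPullback_whiskerLeft_left G B.π).flip
  haveI : IsAffineHom (G ◁ B.π).left := MorphismProperty.of_isPullback hpb (inferInstanceAs (IsAffineHom B.π.left))
  have hw : B.lift.act.left ≫ B.π.left = (G ◁ B.π).left ≫ a.act.left := by
    rw [← Over.comp_left, ← Over.comp_left, B.lift_π]
  have h1 := hr.pullback hw (E := (snd G X).left ⁻¹ᵁ D) hinv.ge
  have h2 := hr.pullback hpb.w (E := (snd G X).left ⁻¹ᵁ D) le_rfl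
  rw [show B.lift.act.left.appTop f = (snd G B.V).left.appTop f from hf.2,
    show B.lift.act.left.appTop g = (snd G B.V).left.appTop g from hg] at h1
  refine ratio_unique (A := (atlasB B).pull hpb) (hf := Atlas.Wt.pull (A := atlasB B) hpb hf.1) ?_ (h1.trans h2.symm)
  rw [nv_pull hpb]
  exact fun x hx => hD hx

end Groth.Agent.GIT36.Sections
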