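import Groth.Agent.GIT36.Sections.Bun
import Mathlib.AlgebraicGeometry.Morphisms.QuasiSeparated

/-!
Functions on the non-vanishing locus of a section extend, after multiplying by a power of the section.
-/

set_option autoImplicit false
set_option backward.isDefEq.respectTransparency.types false
set_option linter.style.haveILetI false
set_option linter.unusedSectionVars false

universe u

open CategoryTheory CategoryTheory.Limits AlgebraicGeometry Opposite TopologicalSpace

noncomputable section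

namespace Groth.Agent.GIT36.Sections

section Scheme

variable {V X : Scheme.{u}} {π : V ⟶ X} [IsAffineHom π]

theorem IsCoord.res {U W : X.Opens} {y : Γ(V, π ⁻¹ᵁ U)} (hy : IsCoord π U y) (hW : W ≤ U) :
    IsCoord π W (rs (π.preimage_mono hW) y) := by
  intro W' hW' hle
  have e : LineBundle.evalAt π (rs (π.preimage_mono hW) y) hle = LineBundle.evalAt π y (hle.trans hW) :=
    congrArg (Polynomial.eval₂RingHom (π.app W').hom) (rs_rs _ _ y)
  rw [e]
  exact hy W' hW' (hle.trans hW)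

/-- all coordinates -/
def Atlas.full (A : Atlas π) : Atlas π where
  chart U := {y | IsCoord π U y}
  cover x := by
    obtain ⟨U, hx, y, hy⟩ := A.cover x
    exact ⟨U, hx, y, A.coord U y hy⟩
  coord _ _ h := h

variable {A : Atlas π}

/-- the non-vanishing locus inside a chart -/
theorem nv_inter_le {n : ℕ} {f : Γ(V, ⊤)} {U W : X.Opens} {y : Γ(V, π ⁻¹ᵁ U)} (hy : y ∈ A.chart U) (hW : W ≤ U)
    {c : Γ(X, W)} (h : rs le_top f = π.app W c * rs (π.preimage_mono hW) y ^ n) :
    nv π f ∩ (W : Set X) = (X.basicOpen c : Set X) :=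
  nv_inter A.full (IsCoord.res (A.coord U y hy) hW) h

/-- on an affine open: multiplying by powers of `f` extends the function with a uniform exponent -/
theorem exists_local_extension {n : ℕ} {f : Γ(V, ⊤)} (hf : A.Wt n f) {D : X.Opens} (hD : (D : Set X) = nv π f)
    (r : Γ(X, D)) {n₀ : ℕ} {g₀ : Γ(V, ⊤)}
    (hle : V.basicOpen f ≤ π ⁻¹ᵁ D)
    (hg₀ : rs le_top g₀ = rs (le_top : V.basicOpen f ≤ ⊤) f ^ n₀ * rs hle (π.app D r))
    {U W : X.Opens} {y : Γ(V, π ⁻¹ᵁ U)} (hy : y ∈ A.chart U) (hW : IsAffineOpen W) (hWU : W ≤ U) :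
    ∃ p : ℕ, ∀ M, p ≤ M → ∃ e : Γ(X, W),
      rs le_top (f ^ M * g₀) = π.app W e * rs (π.preimage_mono hWU) y ^ ((M + n₀) * n) ∧
        (X.basicOpen e : Set X) = (W : Set X) ∩ (X.basicOpen r : Set X) := by
  obtain ⟨c₀, hc₀⟩ := hf U y hy
  set c := rs hWU c₀
  have hc : rs le_top f = π.app W c * rs (π.preimage_mono hWU) y ^ n := Atlas.Wt.res hc₀ hWU
  have hcD : (X.basicOpen c : Set X) = nv π f ∩ (W : Set X) := (nv_inter_le hy hWU hc).symm
  have hcle : X.basicOpen c ≤ D := fun z hz => by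
    rw [← SetLike.mem_coe, hD]
    exact (hcD.subset hz).1
  obtain ⟨m, a, ha⟩ := exists_eq_pow_mul_of_isAffineOpen X W hW c (rs hcle r)
  have hO : IsAffineOpen (π ⁻¹ᵁ W) := hW.preimage π
  set O := π ⁻¹ᵁ W
  set fO : Γ(V, O) := rs le_top f
  set yW := rs (π.preimage_mono hWU) y
  let d : Γ(V, O) := fO ^ m * rs le_top g₀ - fO ^ n₀ * (π.app W a * yW ^ (m * n))
  have hd : TopCat.Presheaf.restrictOpen d (V.basicOpen fO) (V.basicOpen_le fO) = 0 := by
    show rs (V.basicOpen_le fO) d = 0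
    have hb : V.basicOpen fO ≤ V.basicOpen f := by
      rw [show V.basicOpen fO = O ⊓ V.basicOpen f from V.basicOpen_res _ _]; exact inf_le_right
    have hbc : V.basicOpen fO ≤ π ⁻¹ᵁ X.basicOpen c := by
      intro v hv
      have h' : v ∈ O ⊓ V.basicOpen f := by rw [← show V.basicOpen fO = O ⊓ V.basicOpen f from V.basicOpen_res _ _]; exact hv
      show π v ∈ X.basicOpen c
      rw [← SetLike.mem_coe, hcD]
      exact ⟨⟨v, h'.2, rfl⟩, h'.1⟩
    have hg : rs (V.basicOpen_le fO) (rs (le_top : O ≤ ⊤) g₀) =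
        rs (V.basicOpen_le fO) fO ^ n₀ * rs hbc (π.app (X.basicOpen c) (rs hcle r)) := by
      have h1 := congrArg (rs hb) hg₀
      rw [rs_rs, rs_mul, rs_pow, rs_rs, rs_rs] at h1
      rw [rs_rs, h1, rs_rs, ← app_rs π hcle r, rs_rs]
    have ha' : rs (V.basicOpen_le fO) (π.app W a) =
        rs hbc (π.app (X.basicOpen c) (rs (X.basicOpen_le c) c)) ^ m * rs hbc (π.app (X.basicOpen c) (rs hcle r)) := by
      have h1 := congrArg (fun t => rs hbc (π.app (X.basicOpen c) t)) (show rs (X.basicOpen_le c) a =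
        rs (X.basicOpen_le c) c ^ m * rs hcle r from ha)
      simp only [map_mul, map_pow] at h1
      rw [← h1, ← app_rs π (X.basicOpen_le c), rs_rs]
    have hf' : rs (V.basicOpen_le fO) fO =
        rs hbc (π.app (X.basicOpen c) (rs (X.basicOpen_le c) c)) * rs (V.basicOpen_le fO) yW ^ n := by
      refine (congrArg (rs (V.basicOpen_le fO)) hc).trans ?_
      rw [rs_mul, rs_pow, ← app_rs π (X.basicOpen_le c)]
      simp only [rs_rs]
    simp only [d, rs, map_sub, map_mul, map_pow] at *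
    rw [hg, ha', hf', sub_eq_zero]
    ring
  obtain ⟨p, hp⟩ := exists_pow_mul_eq_zero_of_res_basicOpen_eq_zero_of_isAffineOpen V hO d fO hd
  refine ⟨p + m + 1, fun M hM => ?_⟩
  obtain ⟨q, rfl⟩ := Nat.exists_eq_add_of_le hM
  refine ⟨c ^ (p + 1 + q + n₀) * a, ?_, ?_⟩
  · have h1 : fO ^ (p + m) * rs le_top g₀ = fO ^ (p + n₀) * (π.app W a * yW ^ (m * n)) := by
      have h2 := hp
      simp only [d, mul_sub, sub_eq_zero] at h2
      rw [pow_add, pow_add, mul_assoc, mul_assoc]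
      exact h2
    calc rs le_top (f ^ (p + m + 1 + q) * g₀)
        = fO ^ (1 + q) * (fO ^ (p + m) * rs le_top g₀) := by
          rw [rs_mul, rs_pow]; ring
      _ = fO ^ (1 + q) * (fO ^ (p + n₀) * (π.app W a * yW ^ (m * n))) := by rw [h1]
      _ = π.app W (c ^ (p + 1 + q + n₀) * a) * yW ^ ((p + m + 1 + q + n₀) * n) := by
          rw [show fO = π.app W c * yW ^ n from hc, map_mul, map_pow]; ring
  · rw [X.basicOpen_mul, Opens.coe_inf, X.basicOpen_pow c (by omega)]
    have hab : X.basicOpen c ⊓ X.basicOpen a = X.basicOpen c ⊓ X.basicOpen r := by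
      have h1 := congrArg (fun t => X.basicOpen t) (show rs (X.basicOpen_le c) a =
        rs (X.basicOpen_le c) c ^ m * rs hcle r from ha)
      simp only [X.basicOpen_mul, rs, X.basicOpen_res] at h1
      rw [h1]
      rcases Nat.eq_zero_or_pos m with hm | hm
      · subst hm
        rw [pow_zero, X.basicOpen_of_isUnit isUnit_one]
        ext z
        simp only [Opens.coe_inf, Set.mem_inter_iff, SetLike.mem_coe]
        tauto
      · rw [X.basicOpen_pow _ hm, X.basicOpen_res]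
        ext z
        simp only [Opens.coe_inf, Set.mem_inter_iff, SetLike.mem_coe]
        tauto
    rw [← Opens.coe_inf, hab, Opens.coe_inf, hcD]
    ext z
    simp only [Set.mem_inter_iff]
    refine ⟨fun h => ⟨h.1.2, h.2⟩, fun h => ⟨⟨?_, h.1⟩, h.2⟩⟩
    rw [← hD]
    exact X.basicOpen_le r h.2

/-- a function on a non-vanishing locus times a high power of the section is a section -/
theorem exists_wt_extension [CompactSpace X] [CompactSpace V] [QuasiSeparatedSpace V]
    (hlin : ∀ (U U' : X.Opens) (y : Γ(V, π ⁻¹ᵁ U)) (y' : Γ(V, π ⁻¹ᵁ U')), y ∈ A.chart U → y' ∈ A.chart U' →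
      ∃ c : Γ(X, U ⊓ U'), rs (π.preimage_mono inf_le_right) y' =
        π.app (U ⊓ U') c * rs (π.preimage_mono inf_le_left) y)
    {n : ℕ} {f : Γ(V, ⊤)} (hf : A.Wt n f) {D : X.Opens} (hD : (D : Set X) = nv π f) (r : Γ(X, D))
    (hle : V.basicOpen f ≤ π ⁻¹ᵁ D) :
    ∃ (M : ℕ) (g : Γ(V, ⊤)), 1 ≤ M ∧ A.Wt (M * n) g ∧ nv π g = (X.basicOpen r : Set X) ∧
      rs le_top g = rs (le_top : V.basicOpen f ≤ ⊤) f ^ M * rs hle (π.app D r) := by
  classical
  obtain ⟨n₀, g₀, hg₀⟩ := exists_eq_pow_mul_of_isCompact_of_isQuasiSeparated V ⊤ isCompact_univ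
    isQuasiSeparated_univ f (rs hle (π.app D r))
  have hg₀ : rs le_top g₀ = rs (le_top : V.basicOpen f ≤ ⊤) f ^ n₀ * rs hle (π.app D r) := hg₀
  choose U hxU hne using fun x : X => A.cover x
  choose y hy using hne
  choose W hWa hxW hWU using fun x : X => exists_affine_le (hxU x)
  choose p hp using fun x : X => exists_local_extension hf hD r hle hg₀ (hy x) (hWa x) (hWU x)
  obtain ⟨s, hs⟩ := isCompact_univ.elim_finite_subcover (fun x => (W x : Set X)) (fun x => (W x).2)
    (fun x _ => Set.mem_iUnion.2 ⟨x, hxW x⟩)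
  let M := s.sup p + 1
  obtain ⟨g, hgdef⟩ : ∃ g, g = f ^ M * g₀ := ⟨_, rfl⟩
  have hcov : ∀ z : X, ∃ x ∈ s, z ∈ W x := fun z => by
    simpa using hs (Set.mem_univ z)
  have hloc : ∀ x ∈ s, ∃ e : Γ(X, W x),
      rs le_top g = π.app (W x) e * rs (π.preimage_mono (hWU x)) (y x) ^ ((M + n₀) * n) ∧
        (X.basicOpen e : Set X) = (W x : Set X) ∩ (X.basicOpen r : Set X) := fun x hx =>
    hgdef ▸ hp x M ((Finset.le_sup hx).trans (Nat.le_succ _))
  refine ⟨M + n₀, g, by omega, ?_, ?_, ?_⟩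
  · intro U' y' hy'
    choose e he using fun x : s => hloc x.1 x.2
    choose u hu using fun x : s => hlin U' (U x.1) y' (y x.1) hy' (hy x.1)
    let O : s → X.Opens := fun x => U' ⊓ W x.1
    have hOU : ∀ x, O x ≤ U' ⊓ U x.1 := fun x => inf_le_inf_left _ (hWU x.1)
    let t : ∀ x, Γ(X, O x) := fun x =>
      rs (inf_le_right : O x ≤ W x.1) (e x) * rs (hOU x) (u x) ^ ((M + n₀) * n)
    have ht : ∀ x, rs le_top g = π.app (O x) (t x) *
        rs (π.preimage_mono (inf_le_left : O x ≤ U')) y' ^ ((M + n₀) * n) := fun x => by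
      have h1 := congrArg (rs (π.preimage_mono (hOU x))) (hu x)
      rw [rs_rs, rs_mul, app_rs π (hOU x), rs_rs] at h1
      have h2 := congrArg (rs (π.preimage_mono (inf_le_right : O x ≤ W x.1))) (he x).1
      rw [rs_rs, rs_mul, rs_pow, app_rs π (inf_le_right : O x ≤ W x.1), rs_rs, h1] at h2
      rw [h2, map_mul, map_pow]
      ring
    obtain ⟨c, hc⟩ := glue (J := s) O (fun x => inf_le_left) (fun z hz => by
      obtain ⟨x, hx, hzx⟩ := hcov z
      exact Opens.mem_iSup.2 ⟨⟨x, hx⟩, hz, hzx⟩) t fun i j => by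
        have hi := congrArg (rs (π.preimage_mono (inf_le_left : O i ⊓ O j ≤ O i))) (ht i)
        have hj := congrArg (rs (π.preimage_mono (inf_le_right : O i ⊓ O j ≤ O j))) (ht j)
        rw [rs_rs, rs_mul, rs_pow, app_rs π (inf_le_left : O i ⊓ O j ≤ O i), rs_rs] at hi
        rw [rs_rs, rs_mul, rs_pow, app_rs π (inf_le_right : O i ⊓ O j ≤ O j), rs_rs] at hj
        exact coef_unique (A.coord U' y' hy') ((inf_le_left : O i ⊓ O j ≤ O i).trans inf_le_left) _
          (hi.symm.trans hj)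
    refine ⟨c, eq_of_locally _ _ fun v hv => ?_⟩
    obtain ⟨x, hx, hzx⟩ := hcov (π v)
    refine ⟨π ⁻¹ᵁ O ⟨x, hx⟩, π.preimage_mono inf_le_left, ⟨hv, hzx⟩, ?_⟩
    rw [rs_rs, rs_mul, rs_pow, app_rs π (inf_le_left : O ⟨x, hx⟩ ≤ U'), hc]
    exact ht ⟨x, hx⟩
  · ext z
    obtain ⟨x, hx, hzx⟩ := hcov z
    obtain ⟨e, he, heb⟩ := hloc x hx
    have h1 := nv_inter_le (hy x) (hWU x) he
    rw [heb] at h1
    exact ⟨fun h => (h1.subset ⟨h, hzx⟩).2, fun h => (h1.symm.subset ⟨hzx, h⟩).1⟩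
  · rw [hgdef, rs_mul, rs_pow, hg₀, ← mul_assoc, ← pow_add]

end Scheme

end Groth.Agent.GIT36.Sections

namespace Groth.Agent.GIT36.Sections

open MonoidalCategory CartesianMonoidalCategory

section Bun

variable {S : Scheme.{u}} {G X : Over S} [GrpObj G] {a : AlgGrp.Action G X} (B : GLinSh.LinBun G a)

/-- an invariant function on a non-vanishing locus gives an invariant section -/
theorem exists_invSection_extension [CompactSpace X.left] [CompactSpace B.V.left]
    [QuasiSeparatedSpace B.V.left] [CompactSpace (G ⊗ B.V).left]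
    {n : ℕ} {f : Γ(B.V.left, ⊤)} (hf : B.IsInvSection n f) {D : X.left.Opens}
    (hD : (D : Set X.left) = GLinSh.nonvanishing B.π f) (r : Γ(X.left, D))
    (hinv : a.act.left ⁻¹ᵁ D = (snd G X).left ⁻¹ᵁ D)
    (hr : a.act.left.appLE D ((snd G X).left ⁻¹ᵁ D) hinv.ge r =
      (snd G X).left.appLE D ((snd G X).left ⁻¹ᵁ D) le_rfl r) :
    ∃ (M : ℕ) (g : Γ(B.V.left, ⊤)), 1 ≤ M ∧ B.IsInvSection (M * n) g ∧
      GLinSh.nonvanishing B.π g = (X.left.basicOpen r : Set X.left) := by
  haveI := B.atlas.affine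
  have hle : B.V.left.basicOpen f ≤ B.π.left ⁻¹ᵁ D := fun v hv => by
    show B.π.left v ∈ D
    rw [← SetLike.mem_coe, hD]
    exact ⟨v, hv, rfl⟩
  obtain ⟨M, g, hM, hg, hnv, heq⟩ := exists_wt_extension (A := atlasB B)
    (fun U U' y y' hy hy' => by
      obtain ⟨c, -, hc⟩ := B.atlas.linear U U' y y' hy hy'
      exact ⟨c, hc⟩) hf.1 hD r hle
  set f' := (snd G B.V).left.appTop f
  have hf' : B.lift.act.left.appTop f = f' := hf.2
  set d := B.lift.act.left.appTop g - (snd G B.V).left.appTop g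
  have hd : TopCat.Presheaf.restrictOpen d ((G ⊗ B.V).left.basicOpen f') le_top = 0 := by
    show rs (le_top : (G ⊗ B.V).left.basicOpen f' ≤ ⊤) d = 0
    set O := (G ⊗ B.V).left.basicOpen f'
    have hOs : O ≤ (snd G B.V).left ⁻¹ᵁ B.V.left.basicOpen f := by
      rw [Scheme.Hom.preimage_basicOpen_top]
    have hOa : O ≤ B.lift.act.left ⁻¹ᵁ B.V.left.basicOpen f := by
      rw [Scheme.Hom.preimage_basicOpen_top, hf']
    have hw : B.lift.act.left ≫ B.π.left = (G ◁ B.π).left ≫ a.act.left := by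
      rw [← Over.comp_left, ← Over.comp_left, B.lift_π]
    have hw' : (snd G B.V).left ≫ B.π.left = (G ◁ B.π).left ≫ (snd G X).left := by
      rw [← Over.comp_left, ← Over.comp_left, whiskerLeft_snd]
    have hbase : O ≤ (G ◁ B.π).left ⁻¹ᵁ ((snd G X).left ⁻¹ᵁ D) := fun v hv => by
      show ((G ◁ B.π).left ≫ (snd G X).left) v ∈ D
      rw [← hw']
      exact hle (hOs hv)
    have key : ∀ (q : (G ⊗ B.V) ⟶ B.V) (σ : G ⊗ X ⟶ X), q.left ≫ B.π.left = (G ◁ B.π).left ≫ σ.left →
        q.left.appTop f = f' → ∀ (hO : O ≤ q.left ⁻¹ᵁ B.V.left.basicOpen f)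
          (hσ : (snd G X).left ⁻¹ᵁ D ≤ σ.left ⁻¹ᵁ D),
        rs le_top (q.left.appTop g) = rs (le_top : O ≤ ⊤) f' ^ M *
          (G ◁ B.π).left.appLE _ O hbase (σ.left.appLE D _ hσ r) := by
      intro q σ hq hqf hO hσ
      have h1 := congrArg (q.left.appLE _ O hO) heq
      rw [map_mul, map_pow, ← rs_appTop, ← rs_appTop, hqf] at h1
      refine h1.trans (congrArg (_ * ·) ?_)
      rw [Scheme.Hom.app_eq_appLE, rs, ← CommRingCat.comp_apply, ← CommRingCat.comp_apply, ← CommRingCat.comp_apply,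
        Scheme.Hom.map_appLE, Scheme.Hom.appLE_comp_appLE, Scheme.Hom.appLE_comp_appLE]
      exact congr($(LineBundle.appLE_congr_hom hq _ _).hom r)
    simp only [d, rs, map_sub, sub_eq_zero]
    refine (key B.lift.act a.act hw hf' hOa hinv.ge).trans ?_
    rw [hr]
    exact (key (snd G B.V) (snd G X) hw' rfl hOs le_rfl).symm
  obtain ⟨p, hp⟩ := exists_pow_mul_eq_zero_of_res_basicOpen_eq_zero_of_isCompact (G ⊗ B.V).left
    (U := ⊤) isCompact_univ d f' hd
  refine ⟨p + M, f ^ p * g, by omega, ⟨?_, ?_⟩, ?_⟩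
  · rw [Nat.add_mul]
    exact Atlas.Wt.mul (A := atlasB B) (Atlas.Wt.pow (A := atlasB B) hf.1 p) hg
  · show B.lift.act.left.appTop (f ^ p * g) = (snd G B.V).left.appTop (f ^ p * g)
    rw [map_mul, map_mul, map_pow, map_pow, hf', ← sub_eq_zero, ← mul_sub]
    exact hp
  · rcases Nat.eq_zero_or_pos p with hp' | hp'
    · subst hp'
      rw [pow_zero, _root_.one_mul]
      exact hnv
    · show nv B.π.left (f ^ p * g) = _
      rw [nv_mul (A := atlasB B) (Atlas.Wt.pow (A := atlasB B) hf.1 p) hg, nv_pow _ hp', hnv, nv_eq, ← hD]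
      exact Set.inter_eq_right.2 (X.left.basicOpen_le r)

end Bun

end Groth.Agent.GIT36.Sections
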