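import Groth.Agent.GIT36.Sections.Bun

/-!
Generic combinations of invariant sections: one invariant section for finitely many semi-stable points.
-/

set_option autoImplicit false
set_option backward.isDefEq.respectTransparency.types false
set_option linter.style.haveILetI false
set_option linter.unusedSectionVars false

universe u

open CategoryTheory CategoryTheory.Limits MonoidalCategory CartesianMonoidalCategory MonObj GrpObj AlgebraicGeometry
  Opposite TopologicalSpace

noncomputable section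

namespace Groth.Agent.GIT36.Sections

variable {S : Scheme.{u}} {G X : Over S} [GrpObj G] {a : AlgGrp.Action G X}

theorem subsingleton_of_iso_spec {T : Over S} {Ω : Type u} [Field Ω] (eT : T.left ≅ Spec (CommRingCat.of Ω)) :
    Subsingleton T.left :=
  haveI : Subsingleton (Spec (CommRingCat.of Ω)) := inferInstanceAs (Subsingleton (PrimeSpectrum Ω))
  (TopCat.homeoOfIso (Scheme.forgetToTop.mapIso eT)).injective.subsingleton

/-- closedness of orbits is local for invariant opens -/
theorem closedOrbitsOn_of_cover {U : X.left.Opens} {J : Type*} (W : J → X.left.Opens)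
    (hcov : ∀ x ∈ U, ∃ j, x ∈ W j) (hinv : ∀ j, a.act.left ⁻¹ᵁ W j = (snd G X).left ⁻¹ᵁ W j)
    (h : ∀ j, GLinSh.ClosedOrbitsOn a (W j)) : GLinSh.ClosedOrbitsOn a U := by
  intro Ω _ _ T eT f hf
  rw [← isOpen_compl_iff, isOpen_iff_forall_mem_open]
  rintro ⟨p, hp⟩ hpO
  obtain ⟨j, hj⟩ := hcov _ hp
  by_cases hfj : Set.range f.left.base ⊆ (W j : Set X.left)
  · have ho := (h j Ω T eT f hfj).isOpen_compl
    refine ⟨Subtype.val ⁻¹' (Subtype.val '' ((fun q : (fst X T).left ⁻¹ᵁ W j => (q : (X ⊗ T).left)) ⁻¹'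
      Set.range (GIT.psi a f).left.base)ᶜ), ?_, ?_, ?_⟩
    · rintro ⟨q, hq⟩ ⟨q', hq', e⟩ hqO
      refine hq' ?_
      show (q' : (X ⊗ T).left) ∈ Set.range (GIT.psi a f).left.base
      have e' : (q' : (X ⊗ T).left) = q := e
      rw [e']
      exact hqO
    · exact (((fst X T).left ⁻¹ᵁ W j).isOpen.isOpenEmbedding_subtypeVal.isOpenMap _ ho).preimage
        continuous_subtype_val
    · exact ⟨⟨p, hj⟩, fun hq => hpO hq, rfl⟩
  · refine ⟨Subtype.val ⁻¹' ((fst X T).left ⁻¹ᵁ W j : Set (X ⊗ T).left), ?_,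
      ((fst X T).left ⁻¹ᵁ W j).isOpen.preimage continuous_subtype_val, hj⟩
    rintro ⟨q, hq⟩ hqW ⟨r, hr⟩
    have hr' : (GIT.psi a f).left.base r = q := hr
    subst hr'
    apply hfj
    have h1 : (GIT.psi a f).left ≫ (fst X T).left = (G ◁ f).left ≫ a.act.left := by
      rw [← Over.comp_left, ← Over.comp_left, GIT.psi, lift_fst]
    have h2 : (G ◁ f).left.base r ∈ a.act.left ⁻¹ᵁ W j := by
      show ((G ◁ f).left ≫ a.act.left).base r ∈ W j
      rw [← h1]
      exact hqW
    rw [hinv j] at h2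
    have h3 : f.left.base ((snd G T).left.base r) ∈ W j := by
      have e : (snd G T).left ≫ f.left = (G ◁ f).left ≫ (snd G X).left := by
        rw [← Over.comp_left, ← Over.comp_left, whiskerLeft_snd]
      show ((snd G T).left ≫ f.left).base r ∈ W j
      rw [e]
      exact h2
    haveI := subsingleton_of_iso_spec eT
    rintro _ ⟨t, rfl⟩
    rw [Subsingleton.elim t ((snd G T).left.base r)]
    exact h3

/-- avoiding finitely many polynomial conditions -/
theorem exists_eval_ne_zero {k : Type*} [Field k] [Infinite k] {I : Type*} (s : Finset I) {L : I → Type*}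
    [∀ i, Field (L i)] (P : ∀ i, Polynomial (L i)) (hP : ∀ i ∈ s, P i ≠ 0) (φ : ∀ i, k →+* L i) :
    ∃ t : k, ∀ i ∈ s, (P i).eval (φ i t) ≠ 0 := by
  classical
  have hfin : (⋃ i ∈ s, φ i ⁻¹' {x | (P i).IsRoot x}).Finite :=
    Set.Finite.biUnion s.finite_toSet fun i hi =>
      (Polynomial.finite_setOf_isRoot (hP i hi)).preimage (φ i).injective.injOn
  obtain ⟨t, ht⟩ := hfin.infinite_compl.nonempty
  exact ⟨t, fun i hi h0 => ht (Set.mem_biUnion hi h0)⟩

end Groth.Agent.GIT36.Sections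

namespace Groth.Agent.GIT36.Sections

section Field

variable {k : Type u} [Field k] [Infinite k] {G X : Over (Spec (CommRingCat.of k))} [GrpObj G]
  {a : AlgGrp.Action G X} (B : GLinSh.LinBun G a)

/-- finitely many invariant sections of equal weight with affine loci -/
theorem exists_generic {N : ℕ} {I : Type u} (s : Finset I) (F : I → Γ(B.V.left, ⊤))
    (hF : ∀ i ∈ s, B.IsInvSection N (F i)) (U : I → X.left.Opens)
    (hU : ∀ i ∈ s, (U i : Set X.left) = GLinSh.nonvanishing B.π (F i))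
    (hUa : ∀ i ∈ s, IsAffineOpen (U i)) {Z : Type u} (P : Finset Z) (pt : Z → X.left)
    (hpt : ∀ z ∈ P, ∃ i ∈ s, pt z ∈ U i) :
    ∃ (f : Γ(B.V.left, ⊤)) (Uf : X.left.Opens), B.IsInvSection N f ∧
      (Uf : Set X.left) = GLinSh.nonvanishing B.π f ∧ IsAffineOpen Uf ∧ (∀ z ∈ P, pt z ∈ Uf) ∧
      ∀ x ∈ Uf, ∃ i ∈ s, x ∈ U i := by
  classical
  haveI := B.atlas.affine
  let A := atlasB B
  let e : I → ℕ := fun i => if h : i ∈ s then (s.equivFin ⟨i, h⟩ : ℕ) else 0
  have he : ∀ i ∈ s, ∀ j ∈ s, e i = e j → i = j := fun i hi j hj h => by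
    simp only [e, dif_pos hi, dif_pos hj] at h
    exact congrArg Subtype.val (s.equivFin.injective (Fin.ext h))
  let κ : k →+* Γ(Spec (CommRingCat.of k), ⊤) := (Scheme.ΓSpecIso (CommRingCat.of k)).inv.hom
  let F' : k → Γ(B.V.left, ⊤) := fun t => ∑ i ∈ s, cst B (κ (t ^ e i)) * F i
  have hF' : ∀ t, B.IsInvSection N (F' t) := fun t => inv_sum s _ fun i hi => inv_smul' _ (hF i hi)
  -- coordinates at the points
  choose W hxW hne using fun z : Z => A.cover (pt z)
  choose y hy using hne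
  have hc' : ∀ z i, ∃ c : Γ(X.left, W z), i ∈ s →
      rs le_top (F i) = B.π.left.app (W z) c * y z ^ N := fun z i => by
    by_cases hi : i ∈ s
    · obtain ⟨c, hc⟩ := (hF i hi).1 (W z) (y z) (hy z)
      exact ⟨c, fun _ => hc⟩
    · exact ⟨0, fun h => absurd h hi⟩
  choose c hc using hc'
  let φ : ∀ z, k →+* X.left.residueField (pt z) := fun z =>
    (X.left.evaluation (W z) (pt z) (hxW z)).hom.comp ((X.left.presheaf.map (homOfLE le_top).op).hom.comp
      (X.hom.appTop.hom.comp κ))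
  let q : ∀ z, Polynomial (X.left.residueField (pt z)) := fun z =>
    ∑ i ∈ s, Polynomial.C (X.left.evaluation (W z) (pt z) (hxW z) (c z i)) * Polynomial.X ^ e i
  have hq : ∀ z ∈ P, q z ≠ 0 := fun z hz h0 => by
    obtain ⟨i₀, hi₀, hzi⟩ := hpt z hz
    have h1 := congrArg (fun p : Polynomial _ => p.coeff (e i₀)) h0
    simp only [q, Polynomial.finset_sum_coeff, Polynomial.coeff_C_mul_X_pow, Polynomial.coeff_zero] at h1
    rw [Finset.sum_eq_single_of_mem i₀ hi₀ (fun j hj hne => if_neg fun h => hne (he j hj i₀ hi₀ h.symm)),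
      if_pos rfl] at h1
    refine (X.left.evaluation_ne_zero_iff_mem_basicOpen (pt z) (hxW z) (c z i₀)).2 ?_ h1
    rw [← SetLike.mem_coe, ← nv_inter A (hy z) (hc z i₀ hi₀)]
    refine ⟨?_, hxW z⟩
    rw [nv_eq, ← hU i₀ hi₀]
    exact hzi
  obtain ⟨t, ht⟩ := exists_eval_ne_zero (k := k) P q hq φ
  let Uf : X.left.Opens := ⟨GLinSh.nonvanishing B.π (F' t), isOpen_nonvanishing (hF' t)⟩
  have hUf : (Uf : Set X.left) = nv B.π.left (F' t) := rfl
  let sc : ∀ i, Γ(X.left, ⊤) := fun i => X.hom.appTop (κ (t ^ e i))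
  have hchart : ∀ z, rs le_top (F' t) =
      B.π.left.app (W z) (∑ i ∈ s, rs le_top (sc i) * c z i) * y z ^ N := fun z => by
    rw [map_sum, Finset.sum_mul, rs, map_sum]
    refine Finset.sum_congr rfl fun i hi => ?_
    rw [map_mul (B.π.left.app (W z)).hom, map_mul, _root_.mul_assoc, ← hc z i hi]
    exact congrArg (· * _) (app_rs B.π.left (le_top : W z ≤ ⊤) (sc i))
  have hmem : ∀ z ∈ P, pt z ∈ Uf := fun z hz => by
    have h1 : pt z ∈ nv B.π.left (F' t) ∩ (W z : Set X.left) := by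
      rw [nv_inter A (hy z) (hchart z), SetLike.mem_coe,
        ← X.left.evaluation_ne_zero_iff_mem_basicOpen (pt z) (hxW z)]
      have h := ht z hz
      simp only [q, Polynomial.eval_finsetSum, Polynomial.eval_mul, Polynomial.eval_C, Polynomial.eval_pow,
        Polynomial.eval_X, ← map_pow] at h
      rw [map_sum]
      intro h0
      refine h (Eq.trans ?_ h0)
      refine Finset.sum_congr rfl fun i _ => ?_
      rw [map_mul, _root_.mul_comm]
      rfl
    exact h1.1
  -- ratios
  choose r hr using fun i : s => exists_ratio (A := A) (hf := (hF' t).1) (hg := (hF i.1 i.2).1)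
    (D := Uf) (hUf.le)
  have hbo : ∀ i : s, X.left.basicOpen (r i) = Uf ⊓ U i.1 := fun i => by
    ext1
    rw [IsRatio.basicOpen (A := A) (hf := (hF' t).1) (hg := (hF i.1 i.2).1) hUf.le (hr i),
      Opens.coe_inf, hU i.1 i.2]
    rfl
  have hsum : ∑ i : s, rs le_top (sc i.1) * r i = 1 := by
    refine ratio_unique (A := A) (hf := (hF' t).1) hUf.le ?_
    rw [map_one, _root_.one_mul, map_sum, Finset.sum_mul]
    have : rs (le_top : B.π.left ⁻¹ᵁ Uf ≤ ⊤) (F' t) =
        ∑ i : s, rs le_top (cst B (κ (t ^ e i.1))) * rs le_top (F i.1) := by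
      rw [rs, map_sum, ← Finset.sum_attach]
      exact Finset.sum_congr rfl fun i _ => map_mul _ _ _
    rw [this]
    refine Finset.sum_congr rfl fun i _ => ?_
    have hri : B.π.left.app Uf (r i) * rs le_top (∑ j : s, cst B (κ (t ^ e j.1)) * F j.1) =
        rs le_top (F i.1) := by
      have e' : (∑ j : s, cst B (κ (t ^ e j.1)) * F j.1) = F' t :=
        Finset.sum_attach s fun j => cst B (κ (t ^ e j)) * F j
      rw [e']
      exact hr i
    rw [map_mul (B.π.left.app Uf).hom, _root_.mul_assoc, ← hri]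
    refine congrArg₂ (· * ·) (app_rs B.π.left (le_top : Uf ≤ ⊤) (sc i.1)).symm ?_
    rw [rs, map_sum]
    exact congrArg (_ * ·) (Finset.sum_congr rfl fun j _ => map_mul _ _ _).symm
  have hspan : Ideal.span (Set.range r) = ⊤ := by
    rw [Ideal.eq_top_iff_one, ← hsum]
    exact Ideal.sum_mem _ fun i _ => Ideal.mul_mem_left _ _ (Ideal.subset_span ⟨i, rfl⟩)
  have haff : IsAffineOpen Uf := by
    refine isAffineOpen_of_isAffineOpen_basicOpen Uf (Set.range r) hspan ?_
    rintro _ ⟨i, rfl⟩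
    obtain ⟨r', hr'⟩ := exists_ratio (A := A) (hf := (hF i.1 i.2).1) (hg := (hF' t).1) (D := U i.1)
      (by rw [hU i.1 i.2]; rfl)
    have e' : X.left.basicOpen (r i) = X.left.basicOpen r' := by
      ext1
      rw [hbo i, IsRatio.basicOpen (A := A) (hf := (hF i.1 i.2).1) (hg := (hF' t).1)
        (by rw [hU i.1 i.2]; rfl) hr', Opens.coe_inf, Set.inter_comm]
      rfl
    rw [e']
    exact (hUa i.1 i.2).basicOpen r'
  refine ⟨F' t, Uf, hF' t, rfl, haff, hmem, fun x hx => ?_⟩
  have h1 : x ∈ ⨆ g : Set.range r, X.left.basicOpen g.1 := by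
    rw [haff.iSup_basicOpen_eq_self_iff.2 hspan]
    exact hx
  obtain ⟨⟨_, i, rfl⟩, hi⟩ := Opens.mem_iSup.1 h1
  exact ⟨i.1, i.2, (show x ∈ Uf ⊓ U i.1 from hbo i ▸ hi).2⟩

end Field

end Groth.Agent.GIT36.Sections
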