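import Groth.Agent.GIT36.LineBundle.Coord

/-!
Sections of powers of a line bundle in total-space form: coefficients, non-vanishing loci, ratios.
-/

set_option autoImplicit false
set_option backward.isDefEq.respectTransparency.types false
set_option linter.style.haveILetI false
set_option linter.unusedSectionVars false

universe u

open CategoryTheory CategoryTheory.Limits AlgebraicGeometry Opposite TopologicalSpace

noncomputable section

namespace Groth.Agent.GIT36.Sections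

section Scheme

variable {Z : Scheme.{u}}

/-- restriction of sections -/
abbrev rs {U W : Z.Opens} (h : W ≤ U) (s : Γ(Z, U)) : Γ(Z, W) := Z.presheaf.map (homOfLE h).op s

theorem rs_rs {U W W' : Z.Opens} (h : W ≤ U) (h' : W' ≤ W) (s : Γ(Z, U)) : rs h' (rs h s) = rs (h'.trans h) s := by
  rw [rs, rs, ← CommRingCat.comp_apply, ← Functor.map_comp]
  rfl

theorem rs_self {U : Z.Opens} (s : Γ(Z, U)) : rs le_rfl s = s := by
  show Z.presheaf.map (𝟙 (op U)) s = s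
  rw [CategoryTheory.Functor.map_id]
  rfl

theorem rs_mul {U W : Z.Opens} (h : W ≤ U) (s t : Γ(Z, U)) : rs h (s * t) = rs h s * rs h t := map_mul _ s t

theorem rs_pow {U W : Z.Opens} (h : W ≤ U) (s : Γ(Z, U)) (n : ℕ) : rs h (s ^ n) = rs h s ^ n := map_pow _ s n

theorem rs_add {U W : Z.Opens} (h : W ≤ U) (s t : Γ(Z, U)) : rs h (s + t) = rs h s + rs h t := map_add _ s t

theorem rs_one {U W : Z.Opens} (h : W ≤ U) : rs h (1 : Γ(Z, U)) = 1 := map_one _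

theorem rs_zero {U W : Z.Opens} (h : W ≤ U) : rs h (0 : Γ(Z, U)) = 0 := map_zero _

theorem isUnit_rs_of_le_basicOpen {U W : Z.Opens} {c : Γ(Z, U)} (h : W ≤ U) (hle : W ≤ Z.basicOpen c) :
    IsUnit (rs h c) := by
  have h1 : IsUnit (rs (Z.basicOpen_le c) c) := RingedSpace.isUnit_res_basicOpen Z.toRingedSpace c
  have h2 := h1.map (Z.presheaf.map (homOfLE hle).op).hom
  change IsUnit (rs hle (rs (Z.basicOpen_le c) c)) at h2
  rwa [rs_rs] at h2

theorem exists_affine_le {x : Z} {O : Z.Opens} (hx : x ∈ O) : ∃ W : Z.Opens, IsAffineOpen W ∧ x ∈ W ∧ W ≤ O := by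
  obtain ⟨_, ⟨W, hW, rfl⟩, hxW, hle⟩ := Z.isBasis_affineOpens.exists_subset_of_mem_open hx O.2
  exact ⟨W, hW, hxW, hle⟩

theorem eq_of_locally {O : Z.Opens} (s t : Γ(Z, O))
    (h : ∀ x ∈ O, ∃ (W : Z.Opens) (hW : W ≤ O), x ∈ W ∧ rs hW s = rs hW t) : s = t := by
  choose W hW hxW he using h
  exact TopCat.Sheaf.eq_of_locally_eq' Z.sheaf (fun x : O => W x.1 x.2) O (fun x => homOfLE (hW x.1 x.2))
    (fun x hx => TopologicalSpace.Opens.mem_iSup.2 ⟨⟨x, hx⟩, hxW x hx⟩) s t (fun x => he x.1 x.2)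

theorem glue {J : Type u} {O : Z.Opens} (W : J → Z.Opens) (hW : ∀ j, W j ≤ O) (hcov : O ≤ iSup W)
    (t : ∀ j, Γ(Z, W j))
    (ht : ∀ i j, rs (inf_le_left : W i ⊓ W j ≤ W i) (t i) = rs (inf_le_right : W i ⊓ W j ≤ W j) (t j)) :
    ∃ s : Γ(Z, O), ∀ j, rs (hW j) s = t j := by
  obtain ⟨s, hs, -⟩ := TopCat.Sheaf.existsUnique_gluing' Z.sheaf W O (fun j => homOfLE (hW j)) hcov t ht
  exact ⟨s, hs⟩

end Scheme

variable {V X : Scheme.{u}} (π : V ⟶ X)

theorem app_rs {U W : X.Opens} (h : W ≤ U) (c : Γ(X, U)) :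
    rs (π.preimage_mono h) (π.app U c) = π.app W (rs h c) := LineBundle.app_map π h c

/-- a fibre coordinate over an open -/
def IsCoord (U : X.Opens) (y : Γ(V, π ⁻¹ᵁ U)) : Prop :=
  ∀ W : X.Opens, IsAffineOpen W → ∀ hW : W ≤ U, Function.Bijective (LineBundle.evalAt π y hW)

variable {π}

/-- coefficients are unique -/
theorem coef_unique {U : X.Opens} {y : Γ(V, π ⁻¹ᵁ U)} (hy : IsCoord π U y) {W : X.Opens} (hW : W ≤ U) (n : ℕ)
    {c d : Γ(X, W)} (h : π.app W c * rs (π.preimage_mono hW) y ^ n = π.app W d * rs (π.preimage_mono hW) y ^ n) :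
    c = d := by
  refine eq_of_locally c d fun x hx => ?_
  obtain ⟨W', hW'a, hxW', hle⟩ := exists_affine_le hx
  refine ⟨W', hle, hxW', ?_⟩
  have h' := congrArg (rs (π.preimage_mono hle)) h
  rw [rs_mul, rs_mul, rs_pow, app_rs π hle, app_rs π hle, rs_rs] at h'
  have he : ∀ a : Γ(X, W'), LineBundle.evalAt π y (hle.trans hW) (Polynomial.C a * Polynomial.X ^ n) =
      π.app W' a * rs (π.preimage_mono (hle.trans hW)) y ^ n := fun a => by
    rw [map_mul, map_pow]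
    exact congrArg₂ (· * ·) (Polynomial.eval₂_C _ _) (congrArg (· ^ n) (Polynomial.eval₂_X _ _))
  have h'' := (hy W' hW'a (hle.trans hW)).1 (((he (rs hle c)).trans h').trans (he (rs hle d)).symm)
  simpa using congrArg (fun p => Polynomial.coeff p n) h''

/-- weight `n` functions -/
structure Atlas (π : V ⟶ X) where
  /-- charts -/
  chart : ∀ U : X.Opens, Set Γ(V, π ⁻¹ᵁ U)
  /-- charts cover -/
  cover : ∀ x : X, ∃ U : X.Opens, x ∈ U ∧ (chart U).Nonempty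
  /-- charts are coordinates -/
  coord : ∀ U y, y ∈ chart U → IsCoord π U y

variable (A : Atlas π) [IsAffineHom π]

/-- having weight `n` -/
def Atlas.Wt (n : ℕ) (f : Γ(V, ⊤)) : Prop :=
  ∀ (U : X.Opens) (y : Γ(V, π ⁻¹ᵁ U)), y ∈ A.chart U → ∃ c : Γ(X, U), rs le_top f = π.app U c * y ^ n

variable (π) in
/-- the non-vanishing locus -/
def nv (f : Γ(V, ⊤)) : Set X := π.base '' (V.basicOpen f : Set V)

theorem Atlas.Wt.res {n : ℕ} {f : Γ(V, ⊤)} {U : X.Opens} {y : Γ(V, π ⁻¹ᵁ U)} {c : Γ(X, U)}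
    (h : rs le_top f = π.app U c * y ^ n) {W : X.Opens} (hW : W ≤ U) :
    rs (le_top : π ⁻¹ᵁ W ≤ ⊤) f = π.app W (rs hW c) * rs (π.preimage_mono hW) y ^ n := by
  have h' := congrArg (rs (π.preimage_mono hW)) h
  rw [rs_rs] at h'
  refine h'.trans ?_
  rw [rs_mul, rs_pow, app_rs]

theorem nv_inter {n : ℕ} {f : Γ(V, ⊤)} {U : X.Opens} {y : Γ(V, π ⁻¹ᵁ U)} (hy : y ∈ A.chart U) {c : Γ(X, U)}
    (h : rs le_top f = π.app U c * y ^ n) : nv π f ∩ (U : Set X) = (X.basicOpen c : Set X) := by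
  have hb : V.basicOpen (rs (le_top : π ⁻¹ᵁ U ≤ ⊤) f) = π ⁻¹ᵁ U ⊓ V.basicOpen f := V.basicOpen_res _ _
  rw [h, V.basicOpen_mul, ← π.preimage_basicOpen] at hb
  refine Set.Subset.antisymm ?_ fun x hx => ?_
  · rintro _ ⟨⟨v, hv, rfl⟩, hvU⟩
    have h2 : v ∈ π ⁻¹ᵁ X.basicOpen c ⊓ V.basicOpen (y ^ n) := by rw [hb]; exact ⟨hvU, hv⟩
    exact h2.1
  · have hxU : x ∈ U := X.basicOpen_le c hx
    obtain ⟨v, rfl, hv⟩ := LineBundle.exists_point π y (A.coord U y hy) x hxU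
    refine ⟨⟨v, ?_, rfl⟩, hxU⟩
    have hv' : v ∈ π ⁻¹ᵁ X.basicOpen c ⊓ V.basicOpen (y ^ n) := by
      refine ⟨hx, ?_⟩
      rcases Nat.eq_zero_or_pos n with hn | hn
      · subst hn
        rw [pow_zero, V.basicOpen_of_isUnit isUnit_one]
        exact V.basicOpen_le y hv
      · rw [V.basicOpen_pow y hn]
        exact hv
    rw [hb] at hv'
    exact hv'.2

include A in
theorem isOpen_nv {n : ℕ} {f : Γ(V, ⊤)} (hf : A.Wt n f) : IsOpen (nv π f) := by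
  rw [isOpen_iff_forall_mem_open]
  intro x hx
  obtain ⟨U, hxU, y, hy⟩ := A.cover x
  obtain ⟨c, hc⟩ := hf U y hy
  refine ⟨nv π f ∩ (U : Set X), Set.inter_subset_left, ?_, hx, hxU⟩
  rw [nv_inter A hy hc]
  exact (X.basicOpen c).2

theorem Atlas.Wt.one : A.Wt 0 1 := fun U y _ => ⟨1, by rw [rs_one, map_one, pow_zero, mul_one]⟩

theorem Atlas.Wt.zero (n : ℕ) : A.Wt n 0 := fun U y _ => ⟨0, by rw [rs_zero, map_zero, zero_mul]⟩

theorem Atlas.Wt.base (r : Γ(X, ⊤)) : A.Wt 0 (π.app ⊤ r) := fun U y _ =>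
  ⟨rs le_top r, by rw [pow_zero, mul_one]; exact app_rs π le_top r⟩

variable {A}

theorem Atlas.Wt.mul {n m : ℕ} {f g : Γ(V, ⊤)} (hf : A.Wt n f) (hg : A.Wt m g) : A.Wt (n + m) (f * g) := by
  intro U y hy
  obtain ⟨c, hc⟩ := hf U y hy
  obtain ⟨d, hd⟩ := hg U y hy
  refine ⟨c * d, ?_⟩
  rw [rs_mul, map_mul, hc, hd]
  ring

theorem Atlas.Wt.add {n : ℕ} {f g : Γ(V, ⊤)} (hf : A.Wt n f) (hg : A.Wt n g) : A.Wt n (f + g) := by
  intro U y hy
  obtain ⟨c, hc⟩ := hf U y hy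
  obtain ⟨d, hd⟩ := hg U y hy
  refine ⟨c + d, ?_⟩
  rw [rs_add, map_add, hc, hd]
  ring

theorem Atlas.Wt.pow {n : ℕ} {f : Γ(V, ⊤)} (hf : A.Wt n f) : ∀ m : ℕ, A.Wt (m * n) (f ^ m)
  | 0 => by rw [pow_zero, Nat.zero_mul]; exact Atlas.Wt.one A
  | m + 1 => by rw [pow_succ, Nat.succ_mul]; exact (Atlas.Wt.pow hf m).mul hf

theorem Atlas.Wt.sum {n : ℕ} {ι : Type*} (s : Finset ι) (f : ι → Γ(V, ⊤)) (hf : ∀ i ∈ s, A.Wt n (f i)) :
    A.Wt n (∑ i ∈ s, f i) := by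
  classical
  induction s using Finset.induction_on with
  | empty => rw [Finset.sum_empty]; exact Atlas.Wt.zero A n
  | insert i s hi ih =>
    rw [Finset.sum_insert hi]
    exact (hf i (Finset.mem_insert_self i s)).add (ih fun j hj => hf j (Finset.mem_insert_of_mem hj))

theorem nv_mul {n m : ℕ} {f g : Γ(V, ⊤)} (hf : A.Wt n f) (hg : A.Wt m g) :
    nv π (f * g) = nv π f ∩ nv π g := by
  ext x
  obtain ⟨U, hxU, y, hy⟩ := A.cover x
  obtain ⟨c, hc⟩ := hf U y hy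
  obtain ⟨d, hd⟩ := hg U y hy
  have hcd : rs le_top (f * g) = π.app U (c * d) * y ^ (n + m) := by
    rw [rs_mul, map_mul, hc, hd]
    ring
  have e : ∀ {f' : Γ(V, ⊤)} {k : ℕ} {c' : Γ(X, U)}, rs le_top f' = π.app U c' * y ^ k →
      (x ∈ nv π f' ↔ x ∈ X.basicOpen c') := fun h => by
    rw [← SetLike.mem_coe, ← nv_inter A hy h]
    exact ⟨fun hx => ⟨hx, hxU⟩, fun hx => hx.1⟩
  rw [Set.mem_inter_iff, e hcd, e hc, e hd, X.basicOpen_mul]
  exact Iff.rfl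

theorem nv_pow (f : Γ(V, ⊤)) {m : ℕ} (hm : 0 < m) : nv π (f ^ m) = nv π f := by
  rw [nv, nv, V.basicOpen_pow f hm]

theorem nv_one : nv π (1 : Γ(V, ⊤)) = Set.range π.base := by
  rw [nv, V.basicOpen_of_isUnit isUnit_one, TopologicalSpace.Opens.coe_top, Set.image_univ]

variable (π) in
/-- `r` is the ratio `g / f` on `W` -/
def IsRatio (f g : Γ(V, ⊤)) {W : X.Opens} (r : Γ(X, W)) : Prop :=
  π.app W r * rs (le_top : π ⁻¹ᵁ W ≤ ⊤) f = rs le_top g

theorem IsRatio.res {f g : Γ(V, ⊤)} {W W' : X.Opens} {r : Γ(X, W)} (h : IsRatio π f g r) (hle : W' ≤ W) :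
    IsRatio π f g (rs hle r) := by
  have h' := congrArg (rs (π.preimage_mono hle)) h
  rw [rs_mul, app_rs, rs_rs, rs_rs] at h'
  exact h'

include A in
theorem ratio_unique {n : ℕ} {f : Γ(V, ⊤)} (hf : A.Wt n f) {W : X.Opens} (hW : (W : Set X) ⊆ nv π f)
    {r r' : Γ(X, W)} (h : π.app W r * rs (le_top : π ⁻¹ᵁ W ≤ ⊤) f = π.app W r' * rs le_top f) : r = r' := by
  refine eq_of_locally r r' fun x hx => ?_
  obtain ⟨U, hxU, y, hy⟩ := A.cover x
  obtain ⟨c, hc⟩ := hf U y hy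
  refine ⟨W ⊓ U, inf_le_left, ⟨hx, hxU⟩, ?_⟩
  have h' := congrArg (rs (π.preimage_mono (inf_le_left : W ⊓ U ≤ W))) h
  rw [rs_mul, rs_mul, app_rs π (inf_le_left : W ⊓ U ≤ W), app_rs π (inf_le_left : W ⊓ U ≤ W), rs_rs,
    Atlas.Wt.res hc inf_le_right, ← mul_assoc, ← mul_assoc, ← map_mul, ← map_mul] at h'
  have h'' := coef_unique (A.coord U y hy) inf_le_right n h'
  have hu : IsUnit (rs (inf_le_right : W ⊓ U ≤ U) c) := by
    have hle : W ⊓ U ≤ X.basicOpen c := fun z hz => by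
      rw [← SetLike.mem_coe, ← nv_inter A hy hc]
      exact ⟨hW hz.1, hz.2⟩
    exact isUnit_rs_of_le_basicOpen _ hle
  exact hu.mul_left_inj.1 h''

include A in
theorem exists_ratio {n : ℕ} {f g : Γ(V, ⊤)} (hf : A.Wt n f) (hg : A.Wt n g) {D : X.Opens}
    (hD : (D : Set X) ⊆ nv π f) : ∃ r : Γ(X, D), IsRatio π f g r := by
  choose U hxU hne using fun x : D => A.cover x.1
  choose y hy using hne
  choose c hc using fun x : D => hf (U x) (y x) (hy x)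
  choose d hd using fun x : D => hg (U x) (y x) (hy x)
  let W : D → X.Opens := fun x => D ⊓ U x
  have hu : ∀ x : D, IsUnit (rs (inf_le_right : W x ≤ U x) (c x)) := fun x => by
    have hle : W x ≤ X.basicOpen (c x) := fun z hz => by
      rw [← SetLike.mem_coe, ← nv_inter A (hy x) (hc x)]
      exact ⟨hD hz.1, hz.2⟩
    exact isUnit_rs_of_le_basicOpen _ hle
  choose v hv using fun x : D => (hu x).exists_left_inv
  let t : ∀ x : D, Γ(X, W x) := fun x => rs (inf_le_right : W x ≤ U x) (d x) * v x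
  have ht : ∀ x, IsRatio π f g (t x) := fun x => by
    rw [IsRatio, Atlas.Wt.res (hc x) (inf_le_right : W x ≤ U x), Atlas.Wt.res (hd x) (inf_le_right : W x ≤ U x),
      ← mul_assoc, ← map_mul]
    congr 2
    simp only [t]
    rw [mul_assoc, hv x, mul_one]
  obtain ⟨r, hr⟩ := glue W (fun x => inf_le_left)
    (fun x hx => Opens.mem_iSup.2 ⟨⟨x, hx⟩, hx, hxU ⟨x, hx⟩⟩) t fun i j =>
      ratio_unique (W := W i ⊓ W j) hf (fun z hz => hD hz.1.1)
        (((ht i).res inf_le_left).trans ((ht j).res inf_le_right).symm)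
  refine ⟨r, eq_of_locally _ _ fun z hz => ?_⟩
  let x : D := ⟨π.base z, hz⟩
  refine ⟨π ⁻¹ᵁ W x, π.preimage_mono inf_le_left, ⟨hz, hxU x⟩, ?_⟩
  have h1 := ht x
  rw [IsRatio, ← hr x] at h1
  rw [rs_mul, app_rs, rs_rs, rs_rs]
  exact h1

include A in
/-- the non-vanishing locus of a ratio -/
theorem IsRatio.basicOpen {n : ℕ} {f g : Γ(V, ⊤)} (hf : A.Wt n f) (hg : A.Wt n g) {W : X.Opens}
    (hW : (W : Set X) ⊆ nv π f) {r : Γ(X, W)} (hr : IsRatio π f g r) :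
    (X.basicOpen r : Set X) = (W : Set X) ∩ nv π g := by
  ext x
  by_cases hx : x ∈ W
  swap
  · exact ⟨fun h => absurd (X.basicOpen_le r h) hx, fun h => absurd h.1 hx⟩
  obtain ⟨U, hxU, y, hy⟩ := A.cover x
  obtain ⟨c, hc⟩ := hf U y hy
  obtain ⟨d, hd⟩ := hg U y hy
  have h' := hr.res (inf_le_left : W ⊓ U ≤ W)
  rw [IsRatio, Atlas.Wt.res hc inf_le_right, Atlas.Wt.res hd inf_le_right, ← mul_assoc, ← map_mul] at h'
  have h'' := coef_unique (A.coord U y hy) inf_le_right n h'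
  have hb := congrArg (fun s => (X.basicOpen s : X.Opens)) h''
  simp only [X.basicOpen_mul, rs, X.basicOpen_res] at hb
  have hxc : x ∈ X.basicOpen c := by rw [← SetLike.mem_coe, ← nv_inter A hy hc]; exact ⟨hW hx, hxU⟩
  have hxg : x ∈ nv π g ↔ x ∈ X.basicOpen d := by
    rw [← SetLike.mem_coe (p := X.basicOpen d), ← nv_inter A hy hd]
    exact ⟨fun h => ⟨h, hxU⟩, fun h => h.1⟩
  refine ⟨fun hxr => ⟨hx, hxg.2 ?_⟩, fun h => ?_⟩
  · exact (hb.le ⟨⟨⟨hx, hxU⟩, hxr⟩, ⟨hx, hxU⟩, hxc⟩ : x ∈ (W ⊓ U) ⊓ X.basicOpen d).2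
  · exact (hb.ge ⟨⟨hx, hxU⟩, hxg.1 h.2⟩ : x ∈ ((W ⊓ U) ⊓ X.basicOpen r) ⊓ ((W ⊓ U) ⊓ X.basicOpen c)).1.2

end Groth.Agent.GIT36.Sections
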