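import Groth.Agent.GIT36.Sections.Calc

/-!
Weight calculus along a cartesian square of line bundles.
-/

set_option autoImplicit false
set_option backward.isDefEq.respectTransparency.types false
set_option linter.style.haveILetI false
set_option linter.unusedSectionVars false

universe u

open CategoryTheory CategoryTheory.Limits AlgebraicGeometry Opposite TopologicalSpace

noncomputable section

namespace Groth.Agent.GIT36.Sections

variable {V X V' X' : Scheme.{u}} {π : V ⟶ X} {π' : V' ⟶ X'} {p : V' ⟶ V} {φ : X' ⟶ X}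

theorem le_preimage_of_comm (hw : p ≫ π = π' ≫ φ) {U : X.Opens} {U' : X'.Opens} (e : U' ≤ φ ⁻¹ᵁ U) :
    π' ⁻¹ᵁ U' ≤ p ⁻¹ᵁ (π ⁻¹ᵁ U) := by
  intro v hv
  show π (p v) ∈ U
  rw [← Scheme.Hom.comp_apply, hw]
  exact e hv

theorem rs_appTop (f : Γ(V, ⊤)) {U : V.Opens} {U' : V'.Opens} (e : U' ≤ p ⁻¹ᵁ U) :
    rs le_top (p.appTop f) = p.appLE U U' e (rs le_top f) := by
  rw [← CommRingCat.comp_apply, Scheme.Hom.map_appLE]
  rfl

theorem appLE_app (hw : p ≫ π = π' ≫ φ) {U : X.Opens} {U' : X'.Opens} (e : U' ≤ φ ⁻¹ᵁ U) (c : Γ(X, U)) :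
    p.appLE (π ⁻¹ᵁ U) (π' ⁻¹ᵁ U') (le_preimage_of_comm hw e) (π.app U c) = π'.app U' (φ.appLE U U' e c) := by
  rw [Scheme.Hom.app_eq_appLE, Scheme.Hom.app_eq_appLE, ← CommRingCat.comp_apply, ← CommRingCat.comp_apply,
    Scheme.Hom.appLE_comp_appLE, Scheme.Hom.appLE_comp_appLE]
  exact congr($(LineBundle.appLE_congr_hom hw _ _).hom c)

theorem IsRatio.pullback (hw : p ≫ π = π' ≫ φ) {f g : Γ(V, ⊤)} {D : X.Opens} {r : Γ(X, D)}
    (h : IsRatio π f g r) {E : X'.Opens} (e : E ≤ φ ⁻¹ᵁ D) :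
    IsRatio π' (p.appTop f) (p.appTop g) (φ.appLE D E e r) := by
  have h' := congrArg (p.appLE (π ⁻¹ᵁ D) (π' ⁻¹ᵁ E) (le_preimage_of_comm hw e)) h
  rw [map_mul, appLE_app hw e, ← rs_appTop, ← rs_appTop] at h'
  exact h'

/-- the atlas pulled back along a cartesian square -/
def Atlas.pull (A : Atlas π) [IsAffineHom π] [IsAffineHom π'] (h : IsPullback p π' π φ) : Atlas π' where
  chart U' := {y' | ∃ (U : X.Opens) (y : Γ(V, π ⁻¹ᵁ U)) (e : U' ≤ φ ⁻¹ᵁ U),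
    y ∈ A.chart U ∧ y' = p.appLE (π ⁻¹ᵁ U) (π' ⁻¹ᵁ U') (le_preimage_of_comm h.w e) y}
  cover x := by
    obtain ⟨U, hxU, y, hy⟩ := A.cover (φ x)
    exact ⟨φ ⁻¹ᵁ U, hxU, _, U, y, le_rfl, hy, rfl⟩
  coord := by
    rintro U' _ ⟨U, y, e, hy, rfl⟩ W hW hWU
    exact LineBundle.bijective_evalAt_baseChange h y (A.coord U y hy) e (le_preimage_of_comm h.w e) hW hWU

variable {A : Atlas π} [IsAffineHom π] [IsAffineHom π']

theorem Atlas.Wt.pull (h : IsPullback p π' π φ) {n : ℕ} {f : Γ(V, ⊤)} (hf : A.Wt n f) :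
    (A.pull h).Wt n (p.appTop f) := by
  rintro U' _ ⟨U, y, e, hy, rfl⟩
  obtain ⟨c, hc⟩ := hf U y hy
  refine ⟨φ.appLE U U' e c, ?_⟩
  rw [rs_appTop f (le_preimage_of_comm h.w e), hc, map_mul, map_pow, appLE_app h.w e]

theorem nv_pull (h : IsPullback p π' π φ) (f : Γ(V, ⊤)) :
    nv π' (p.appTop f) = φ.base ⁻¹' nv π f := by
  refine Set.Subset.antisymm ?_ ?_
  · rintro _ ⟨v, hv, rfl⟩
    refine ⟨p v, ?_, ?_⟩
    · rw [← Scheme.Hom.preimage_basicOpen_top] at hv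
      exact hv
    · rw [← Scheme.Hom.comp_apply, h.w]
      rfl
  · rintro x ⟨v, hv, hvx⟩
    obtain ⟨z, hz₁, hz₂⟩ := Scheme.Pullback.exists_preimage_pullback (f := π) (g := φ) v x hvx
    have h₁ : h.isoPullback.inv ≫ p = Limits.pullback.fst π φ := h.isoPullback_inv_fst
    have h₂ : h.isoPullback.inv ≫ π' = Limits.pullback.snd π φ := h.isoPullback_inv_snd
    have hq₁ : p (h.isoPullback.inv z) = v := by rw [← Scheme.Hom.comp_apply, h₁]; exact hz₁
    refine ⟨h.isoPullback.inv z, ?_, by rw [← Scheme.Hom.comp_apply, h₂]; exact hz₂⟩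
    rw [← Scheme.Hom.preimage_basicOpen_top]
    show p (h.isoPullback.inv z) ∈ V.basicOpen f
    rw [hq₁]
    exact hv

end Groth.Agent.GIT36.Sections
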